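import Mathlib
import Cfsg.Prelude.Def_BaumannBlocks

/-!
# The Chermak–Delgado measure and centrally large subgroups
-/

namespace CfsgLib.CD

set_option autoImplicit false
set_option linter.style.haveILetI false

open Pointwise

variable {P : Type*} [Group P] [Finite P]

/-- The measure `|R| · |C(R)|`. -/
noncomputable def meas (R : Subgroup P) : ℕ :=
  Nat.card R * Nat.card (Subgroup.centralizer (R : Set P))

theorem bddAbove_range {α : Type*} [Finite α] (f : α → ℕ) : BddAbove {k | ∃ R, f R = k} :=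
  (Set.finite_range f).bddAbove

theorem le_max (R : Subgroup P) : meas R ≤ Cfsg.maxCentralizerProduct P :=
  le_csSup (bddAbove_range (meas (P := P))) ⟨R, rfl⟩

theorem exists_large : ∃ R : Subgroup P, Cfsg.IsCentralizerLarge R := by
  obtain ⟨R, hR⟩ := Nat.sSup_mem (s := {k : ℕ | ∃ R : Subgroup P, meas R = k})
    ⟨_, ⊥, rfl⟩ (bddAbove_range meas)
  exact ⟨R, hR⟩

/-- The product set of two subgroups, counted. -/
theorem card_mul_set (Q R : Subgroup P) :
    Nat.card Q * Nat.card R = Nat.card ↥((Q : Set P) * (R : Set P)) * Nat.card ↥(Q ⊓ R) := by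
  rw [← Nat.card_prod, ← Nat.card_prod]
  have h : ∀ x : ↥((Q : Set P) * (R : Set P)), ∃ a : Q, ∃ b : R, (a : P) * b = x := by
    rintro ⟨_, a, ha, b, hb, rfl⟩
    exact ⟨⟨a, ha⟩, ⟨b, hb⟩, rfl⟩
  choose fa fb hab using h
  refine Nat.card_eq_of_bijective
    (fun u : Q × R => (⟨⟨(u.1 : P) * u.2, Set.mul_mem_mul u.1.2 u.2.2⟩,
      ⟨(fa ⟨(u.1 : P) * u.2, Set.mul_mem_mul u.1.2 u.2.2⟩ : P)⁻¹ * u.1,
        Q.mul_mem (Q.inv_mem (fa _).2) u.1.2, by
          have e := hab ⟨(u.1 : P) * u.2, Set.mul_mem_mul u.1.2 u.2.2⟩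
          rw [show (fa ⟨(u.1 : P) * u.2, Set.mul_mem_mul u.1.2 u.2.2⟩ : P)⁻¹ * u.1 =
            (fb ⟨(u.1 : P) * u.2, Set.mul_mem_mul u.1.2 u.2.2⟩ : P) * (u.2 : P)⁻¹ by
              rw [eq_mul_inv_iff_mul_eq, mul_assoc, inv_mul_eq_iff_eq_mul]; exact e.symm]
          exact R.mul_mem (fb _).2 (R.inv_mem u.2.2)⟩⟩ :
        ↥((Q : Set P) * (R : Set P)) × ↥(Q ⊓ R))) ⟨?_, ?_⟩
  · intro u v huv
    obtain ⟨h1, h2⟩ := Prod.mk.injEq _ _ _ _ |>.mp huv
    have e2 := congrArg Subtype.val h2
    dsimp only at e2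
    rw [h1] at e2
    have e3 : (u.1 : P) = v.1 := mul_left_cancel e2
    have e4 := congrArg Subtype.val h1
    dsimp only at e4
    rw [e3] at e4
    exact Prod.ext (Subtype.ext e3) (Subtype.ext (mul_left_cancel e4))
  · rintro ⟨x, ⟨t, htQ, htR⟩⟩
    refine ⟨(⟨(fa x : P) * t, Q.mul_mem (fa x).2 htQ⟩,
      ⟨t⁻¹ * (fb x : P), R.mul_mem (R.inv_mem htR) (fb x).2⟩), ?_⟩
    have hx : (fa x : P) * t * (t⁻¹ * (fb x : P)) = x := by rw [← hab x]; group
    refine Prod.ext (Subtype.ext hx) (Subtype.ext ?_)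
    dsimp only
    rw [show (⟨_, Set.mul_mem_mul (Q.mul_mem (fa x).2 htQ) (R.mul_mem (R.inv_mem htR) (fb x).2)⟩ :
      ↥((Q : Set P) * (R : Set P))) = x from Subtype.ext hx, inv_mul_cancel_left]

theorem mul_subset_sup (Q R : Subgroup P) : (Q : Set P) * (R : Set P) ⊆ ↑(Q ⊔ R) := by
  rintro _ ⟨a, ha, b, hb, rfl⟩
  exact (Q ⊔ R).mul_mem (Subgroup.mem_sup_left ha) (Subgroup.mem_sup_right hb)

theorem card_mul_le (Q R : Subgroup P) :
    Nat.card Q * Nat.card R ≤ Nat.card ↥(Q ⊔ R) * Nat.card ↥(Q ⊓ R) := by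
  rw [card_mul_set]
  exact Nat.mul_le_mul_right _ (Nat.card_mono (Set.toFinite _) (mul_subset_sup Q R))

theorem eq_mul_of_card (Q R : Subgroup P)
    (h : Nat.card ↥(Q ⊔ R) * Nat.card ↥(Q ⊓ R) ≤ Nat.card Q * Nat.card R) :
    ((Q ⊔ R : Subgroup P) : Set P) = (Q : Set P) * (R : Set P) := by
  refine (Set.eq_of_subset_of_ncard_le (mul_subset_sup Q R) ?_ (Set.toFinite _)).symm
  rw [card_mul_set Q R] at h
  rw [← Nat.card_coe_set_eq, ← Nat.card_coe_set_eq]
  exact Nat.le_of_mul_le_mul_right h Nat.card_pos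

theorem centralizer_sup (Q R : Subgroup P) :
    Subgroup.centralizer ((Q ⊔ R : Subgroup P) : Set P) =
      Subgroup.centralizer (Q : Set P) ⊓ Subgroup.centralizer (R : Set P) := by
  refine le_antisymm (le_inf (Subgroup.centralizer_le (SetLike.coe_subset_coe.mpr le_sup_left))
    (Subgroup.centralizer_le (SetLike.coe_subset_coe.mpr le_sup_right))) ?_
  rw [Subgroup.le_centralizer_iff]
  exact sup_le (Subgroup.le_centralizer_iff.mp inf_le_left) (Subgroup.le_centralizer_iff.mp inf_le_right)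

theorem sup_centralizer_le (Q R : Subgroup P) :
    Subgroup.centralizer (Q : Set P) ⊔ Subgroup.centralizer (R : Set P) ≤
      Subgroup.centralizer ((Q ⊓ R : Subgroup P) : Set P) :=
  sup_le (Subgroup.centralizer_le (SetLike.coe_subset_coe.mpr inf_le_left))
    (Subgroup.centralizer_le (SetLike.coe_subset_coe.mpr inf_le_right))

/-- Everything that follows from two subgroups being centralizer-large. -/
theorem large_pair {Q R : Subgroup P} (hQ : Cfsg.IsCentralizerLarge Q)
    (hR : Cfsg.IsCentralizerLarge R) :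
    Cfsg.IsCentralizerLarge (Q ⊔ R) ∧ Cfsg.IsCentralizerLarge (Q ⊓ R) ∧
      ((Q ⊔ R : Subgroup P) : Set P) = (Q : Set P) * (R : Set P) ∧
      ((Subgroup.centralizer (Q : Set P) ⊔ Subgroup.centralizer (R : Set P) : Subgroup P) : Set P) =
        (Subgroup.centralizer (Q : Set P) : Set P) * (Subgroup.centralizer (R : Set P) : Set P) ∧
      Subgroup.centralizer ((Q ⊓ R : Subgroup P) : Set P) =
        Subgroup.centralizer (Q : Set P) ⊔ Subgroup.centralizer (R : Set P) := by
  set A := Subgroup.centralizer (Q : Set P) with hA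
  set B := Subgroup.centralizer (R : Set P) with hB
  set M := Cfsg.maxCentralizerProduct P with hM
  have hQ' : Nat.card Q * Nat.card A = M := hQ
  have hR' : Nat.card R * Nat.card B = M := hR
  set a := Nat.card ↥(Q ⊔ R)
  set b := Nat.card ↥(Q ⊓ R)
  set c := Nat.card ↥(A ⊔ B)
  set d := Nat.card ↥(A ⊓ B)
  set c' := Nat.card ↥(Subgroup.centralizer ((Q ⊓ R : Subgroup P) : Set P))
  have hsup : a * d ≤ M := by
    have := le_max (Q ⊔ R)
    rwa [meas, centralizer_sup] at this
  have hinf : b * c' ≤ M := le_max (Q ⊓ R)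
  have hcc : c ≤ c' := Subgroup.card_le_of_le (sup_centralizer_le Q R)
  have h1 : Nat.card Q * Nat.card R ≤ a * b := card_mul_le Q R
  have h2 : Nat.card A * Nat.card B ≤ c * d := card_mul_le A B
  have hMM : M * M = (Nat.card Q * Nat.card R) * (Nat.card A * Nat.card B) := by
    rw [mul_mul_mul_comm, hQ', hR']
  have hpos : ∀ H : Subgroup P, 0 < Nat.card H := fun H => Nat.card_pos
  have pa : 0 < a := hpos _
  have pb : 0 < b := hpos _
  have pc : 0 < c := hpos _
  have pd : 0 < d := hpos _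
  have hMpos : 0 < M := hQ' ▸ Nat.mul_pos (hpos Q) (hpos A)
  have chain1 : M * M ≤ (a * b) * (c * d) := hMM ▸ Nat.mul_le_mul h1 h2
  have chain2 : (a * b) * (c * d) ≤ (a * d) * (b * c') := by
    calc (a * b) * (c * d) = (a * d) * (b * c) := by ring
      _ ≤ (a * d) * (b * c') := Nat.mul_le_mul_left _ (Nat.mul_le_mul_left _ hcc)
  have chain3 : (a * d) * (b * c') ≤ M * M := Nat.mul_le_mul hsup hinf
  have e1 : a * d = M := by
    refine le_antisymm hsup (Nat.le_of_mul_le_mul_right ?_ hMpos)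
    exact le_trans (chain1.trans chain2) (Nat.mul_le_mul_left _ hinf)
  have e2 : b * c' = M := by
    refine le_antisymm hinf (Nat.le_of_mul_le_mul_left ?_ hMpos)
    exact le_trans (chain1.trans chain2) (Nat.mul_le_mul_right _ hsup)
  have e3 : c' ≤ c := by
    have h := chain3.trans chain1
    rw [show (a * b) * (c * d) = (a * d * b) * c by ring,
      show (a * d) * (b * c') = (a * d * b) * c' by ring] at h
    exact Nat.le_of_mul_le_mul_left h (by positivity)
  have e4 : a * b ≤ Nat.card Q * Nat.card R := by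
    by_contra h
    have := Nat.mul_lt_mul_of_lt_of_le (Nat.lt_of_not_le h) h2
      (Nat.mul_pos pc pd)
    rw [← hMM] at this
    exact absurd (chain2.trans chain3) (Nat.not_le.mpr this)
  have e5 : c * d ≤ Nat.card A * Nat.card B := by
    by_contra h
    have := Nat.mul_lt_mul_of_le_of_lt h1 (Nat.lt_of_not_le h) (Nat.mul_pos pa pb)
    rw [← hMM] at this
    exact absurd (chain2.trans chain3) (Nat.not_le.mpr this)
  refine ⟨?_, e2, eq_mul_of_card Q R e4, eq_mul_of_card A B e5,
    (Subgroup.eq_of_le_of_card_ge (sup_centralizer_le Q R) e3).symm⟩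
  change Nat.card ↥(Q ⊔ R) * Nat.card ↥(Subgroup.centralizer ((Q ⊔ R : Subgroup P) : Set P)) = M
  rw [centralizer_sup]
  exact e1

theorem large_centralizer {Q : Subgroup P} (hQ : Cfsg.IsCentralizerLarge Q) :
    Cfsg.IsCentralizerLarge (Subgroup.centralizer (Q : Set P)) ∧
      Q = Subgroup.centralizer ((Subgroup.centralizer (Q : Set P) : Subgroup P) : Set P) := by
  set A := Subgroup.centralizer (Q : Set P)
  have hle : Q ≤ Subgroup.centralizer (A : Set P) := Subgroup.le_centralizer_iff.mp le_rfl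
  have h1 : Nat.card Q * Nat.card A = Cfsg.maxCentralizerProduct P := hQ
  have h2 := le_max A
  rw [meas, mul_comm, ← h1] at h2
  have h3 : Nat.card (Subgroup.centralizer (A : Set P)) ≤ Nat.card Q :=
    Nat.le_of_mul_le_mul_right h2 Nat.card_pos
  have e := Subgroup.eq_of_le_of_card_ge hle h3
  refine ⟨?_, e⟩
  change Nat.card A * Nat.card (Subgroup.centralizer (A : Set P)) = _
  rw [← e, mul_comm, h1]

/-- `|R| · |Z(R)|`, with `Z(R)` computed in the ambient group. -/
theorem card_center_eq (R : Subgroup P) :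
    Nat.card (Subgroup.center R) = Nat.card ↥(R ⊓ Subgroup.centralizer (R : Set P)) := by
  rw [← Subgroup.card_map_of_injective R.subtype_injective]
  refine congrArg (fun X : Subgroup P => Nat.card X) (le_antisymm ?_ ?_)
  · rintro _ ⟨x, hx, rfl⟩
    exact ⟨x.2, Subgroup.mem_centralizer_iff.mpr fun y hy =>
      congrArg Subtype.val (Subgroup.mem_center_iff.mp hx ⟨y, hy⟩)⟩
  · intro x hx
    exact ⟨⟨x, hx.1⟩, Subgroup.mem_center_iff.mpr fun y =>
      Subtype.ext (Subgroup.mem_centralizer_iff.mp hx.2 y y.2), rfl⟩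

/-- A centralizer-large subgroup containing its centralizer. -/
theorem exists_large_containing_centralizer :
    ∃ R : Subgroup P, Cfsg.IsCentralizerLarge R ∧ Subgroup.centralizer (R : Set P) ≤ R := by
  obtain ⟨Q, hQ⟩ := exists_large (P := P)
  refine ⟨_, (large_pair hQ (large_centralizer hQ).1).1, ?_⟩
  rw [centralizer_sup]
  exact inf_le_left.trans le_sup_right

theorem maxCentralProduct_eq : Cfsg.maxCentralProduct P = Cfsg.maxCentralizerProduct P := by
  refine le_antisymm (csSup_le ⟨_, ⊥, rfl⟩ ?_) ?_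
  · rintro k ⟨R, rfl⟩
    rw [card_center_eq]
    exact (Nat.mul_le_mul_left _ (Subgroup.card_le_of_le inf_le_right)).trans (le_max R)
  · obtain ⟨R, hR, hC⟩ := exists_large_containing_centralizer (P := P)
    rw [← hR]
    refine le_csSup (bddAbove_range (fun R : Subgroup P => Nat.card R * Nat.card (Subgroup.center R)))
      ⟨R, ?_⟩
    rw [card_center_eq, inf_eq_right.mpr hC]

theorem centrallyLarge_iff {Q : Subgroup P} :
    Cfsg.IsCentrallyLarge Q ↔
      Cfsg.IsCentralizerLarge Q ∧ Subgroup.centralizer (Q : Set P) ≤ Q := by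
  rw [Cfsg.IsCentrallyLarge, maxCentralProduct_eq, card_center_eq]
  constructor
  · intro h
    have h2 : Nat.card Q * Nat.card ↥(Q ⊓ Subgroup.centralizer (Q : Set P)) ≤ meas Q :=
      Nat.mul_le_mul_left _ (Subgroup.card_le_of_le inf_le_right)
    have h3 : meas Q = Cfsg.maxCentralizerProduct P := le_antisymm (le_max Q) (h ▸ h2)
    refine ⟨h3, ?_⟩
    rw [← inf_eq_right]
    refine Subgroup.eq_of_le_of_card_ge inf_le_right (le_of_eq ?_)
    exact Nat.eq_of_mul_eq_mul_left (Nat.card_pos (α := Q)) (h3.trans h.symm)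
  · rintro ⟨h, h2⟩
    rw [inf_eq_right.mpr h2]
    exact h

theorem centrallyLarge_sup {Q R : Subgroup P} (hQ : Cfsg.IsCentrallyLarge Q)
    (hR : Cfsg.IsCentrallyLarge R) : Cfsg.IsCentrallyLarge (Q ⊔ R) := by
  rw [centrallyLarge_iff] at hQ hR ⊢
  refine ⟨(large_pair hQ.1 hR.1).1, ?_⟩
  rw [centralizer_sup]
  exact inf_le_left.trans (hQ.2.trans le_sup_left)

theorem centrallyLarge_sSup {S : Set (Subgroup P)} (hne : S.Nonempty)
    (hS : ∀ Q ∈ S, Cfsg.IsCentrallyLarge Q) : Cfsg.IsCentrallyLarge (sSup S) := by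
  suffices h : ∀ T : Set (Subgroup P), T.Finite → (∀ Q ∈ T, Cfsg.IsCentrallyLarge Q) →
      T.Nonempty → Cfsg.IsCentrallyLarge (sSup T) from h S (Set.toFinite S) hS hne
  intro T hT
  induction T, hT using Set.Finite.induction_on with
  | empty => exact fun _ h => absurd h Set.not_nonempty_empty
  | @insert a t _ _ ih =>
    intro h _
    rw [sSup_insert]
    rcases t.eq_empty_or_nonempty with rfl | ht
    · simpa using h a (Set.mem_insert a _)
    · exact centrallyLarge_sup (h a (Set.mem_insert a _))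
        (ih (fun Q hQ => h Q (Set.mem_insert_of_mem a hQ)) ht)

end CfsgLib.CD
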