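import Mathlib
import Cfsg.Prelude.Def_PLocal
import Cfsg.Agent.Lib.CD.Basic
import Cfsg.Agent.Lib.Critical.Basic

/-!
# A minimal centrally large subgroup normalized by every replacing abelian subgroup

An abelian subgroup `A` is replacing if conjugation by `A` moves the centralizer of each centrally
large subgroup `Q` inside `C(Q) A`.  Abelian subgroups of largest order and the centres of minimal
centrally large subgroups are replacing.
-/

namespace CfsgLib.CD

set_option autoImplicit false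
set_option linter.style.haveILetI false

open scoped Pointwise

variable {P : Type*} [Group P] [Finite P]

/-- The conjugate `g X g⁻¹`. -/
abbrev cj (g : P) (X : Subgroup P) : Subgroup P := X.map (MulAut.conj g).toMonoidHom

omit [Finite P] in
theorem mem_cj {g x : P} {X : Subgroup P} : x ∈ cj g X ↔ g⁻¹ * x * g ∈ X := by
  constructor
  · rintro ⟨y, hy, rfl⟩
    simpa [mul_assoc] using hy
  · exact fun h => ⟨_, h, by simp [mul_assoc]⟩

omit [Finite P] in
theorem mem_normalizer_iff_cj {g : P} {X : Subgroup P} :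
    g ∈ Subgroup.normalizer (X : Set P) ↔ cj g X = X := by
  rw [Subgroup.mem_normalizer_iff'']
  constructor
  · exact fun h => SetLike.ext fun x => by rw [mem_cj]; exact (h x).symm
  · intro h x
    exact ⟨fun hx => mem_cj.mp (h.symm ▸ hx), fun hx => h ▸ mem_cj.mpr hx⟩

omit [Finite P] in
theorem cj_mul (g h : P) (X : Subgroup P) : cj g (cj h X) = cj (g * h) X := by
  ext x
  simp [mem_cj, mul_assoc]

omit [Finite P] in
theorem cj_one (X : Subgroup P) : cj 1 X = X := by ext x; simp [mem_cj]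

omit [Finite P] in
theorem centralizer_cj (g : P) (X : Subgroup P) :
    Subgroup.centralizer (cj g X : Set P) = cj g (Subgroup.centralizer (X : Set P)) := by
  ext x
  rw [mem_cj]
  constructor
  · intro h y hy
    have := h (g * y * g⁻¹) (mem_cj.mpr (by simpa [mul_assoc] using hy))
    calc y * (g⁻¹ * x * g) = g⁻¹ * (g * y * g⁻¹ * x) * g := by group
      _ = g⁻¹ * (x * (g * y * g⁻¹)) * g := by rw [this]
      _ = g⁻¹ * x * g * y := by group
  · intro h y hy
    have := h _ (mem_cj.mp hy)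
    calc y * x = g * ((g⁻¹ * y * g) * (g⁻¹ * x * g)) * g⁻¹ := by group
      _ = g * ((g⁻¹ * x * g) * (g⁻¹ * y * g)) * g⁻¹ := by rw [this]
      _ = x * y := by group

omit [Finite P] in
theorem card_cj (g : P) (X : Subgroup P) : Nat.card (cj g X) = Nat.card X :=
  Subgroup.card_map_of_injective (MulAut.conj g).injective

theorem large_cj {X : Subgroup P} (h : Cfsg.IsCentralizerLarge X) (g : P) :
    Cfsg.IsCentralizerLarge (cj g X) := by
  show Nat.card _ * Nat.card _ = _
  rw [centralizer_cj, card_cj, card_cj]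
  exact h

theorem centrallyLarge_cj {X : Subgroup P} (h : Cfsg.IsCentrallyLarge X) (g : P) :
    Cfsg.IsCentrallyLarge (cj g X) := by
  rw [centrallyLarge_iff] at h ⊢
  refine ⟨large_cj h.1 g, ?_⟩
  rw [centralizer_cj]
  exact Subgroup.map_mono h.2

/-- An abelian subgroup moving each `C(Q)` inside `C(Q) A`. -/
def IsReplacing (A : Subgroup P) : Prop :=
  (∀ a ∈ A, ∀ b ∈ A, a * b = b * a) ∧
    ∀ Q : Subgroup P, Cfsg.IsCentrallyLarge Q → ∀ x ∈ Subgroup.centralizer (Q : Set P), ∀ a ∈ A,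
      a * x * a⁻¹ ∈ (Subgroup.centralizer (Q : Set P) : Set P) * (A : Set P)

theorem isReplacing_cj {A : Subgroup P} (h : IsReplacing A) (g : P) : IsReplacing (cj g A) := by
  refine ⟨fun a ha b hb => ?_, fun Q hQ x hx a ha => ?_⟩
  · have := h.1 _ (mem_cj.mp ha) _ (mem_cj.mp hb)
    calc a * b = g * ((g⁻¹ * a * g) * (g⁻¹ * b * g)) * g⁻¹ := by group
      _ = g * ((g⁻¹ * b * g) * (g⁻¹ * a * g)) * g⁻¹ := by rw [this]
      _ = b * a := by group
  · have hx' : g⁻¹ * x * g ∈ Subgroup.centralizer (cj g⁻¹ Q : Set P) := by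
      rw [centralizer_cj, mem_cj]; simpa [mul_assoc] using hx
    obtain ⟨u, hu, v, hv, huv⟩ := h.2 _ (centrallyLarge_cj hQ g⁻¹) _ hx' _ (mem_cj.mp ha)
    refine ⟨g * u * g⁻¹, ?_, g * v * g⁻¹, ?_, ?_⟩
    · rw [SetLike.mem_coe, centralizer_cj, mem_cj] at hu
      simpa [mul_assoc] using hu
    · exact mem_cj.mpr (by simpa [mul_assoc] using hv)
    · calc g * u * g⁻¹ * (g * v * g⁻¹) = g * (u * v) * g⁻¹ := by group
        _ = _ := by rw [show u * v = _ from huv]; group

/-- In a large abelian setting: two members of a family closed under intersection. -/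
theorem exists_least {F : Set (Subgroup P)} (hne : F.Nonempty)
    (hinf : ∀ L ∈ F, ∀ M ∈ F, L ⊓ M ∈ F) : ∃ U ∈ F, ∀ L ∈ F, U ≤ L := by
  obtain ⟨U, hU, hmin⟩ := (Set.toFinite F).exists_minimal hne
  exact ⟨U, hU, fun L hL => (hmin (hinf U hU L hL) inf_le_left).trans inf_le_right⟩

theorem eq_of_cj_le {g : P} {X : Subgroup P} (h : cj g X ≤ X) : cj g X = X :=
  Subgroup.eq_of_le_of_card_ge h (card_cj g X).ge

theorem eq_of_le_cj {g : P} {X : Subgroup P} (h : X ≤ cj g X) : cj g X = X :=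
  (Subgroup.eq_of_le_of_card_ge h (card_cj g X).le).symm

omit [Finite P] in
/-- `⟨D⟩` for the members of `D`. -/
theorem sSup_le_normalizer {D : Set (Subgroup P)} {X : Subgroup P}
    (h : ∀ A ∈ D, A ≤ Subgroup.normalizer (X : Set P)) :
    sSup D ≤ Subgroup.normalizer (X : Set P) := sSup_le h

section

variable {p : ℕ} [Fact p.Prime]

omit [Finite P] in
/-- A set of subgroups stable under conjugation: some member outside `D` normalizes `⟨D⟩`. -/
theorem exists_normalizing [Finite P] (hP : IsPGroup p P) (X : Subgroup P)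
    (G : Set (Subgroup P)) (hG : ∀ A ∈ G, ∀ g : P, cj g A ∈ G)
    (hX : ∃ A ∈ G, ¬ A ≤ Subgroup.normalizer (X : Set P)) :
    ∃ A ∈ G, ¬ A ≤ Subgroup.normalizer (X : Set P) ∧
      A ≤ Subgroup.normalizer
        ((sSup {B | B ∈ G ∧ B ≤ Subgroup.normalizer (X : Set P)} : Subgroup P) : Set P) := by
  by_contra h
  push Not at h
  set D := {B | B ∈ G ∧ B ≤ Subgroup.normalizer (X : Set P)} with hD
  set N := sSup D with hN
  set N2 := Subgroup.normalizer (N : Set P) with hN2
  -- the members inside `N2` are the members of `D`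
  have hmem : ∀ A ∈ G, A ≤ N2 → A ∈ D := fun A hA hle => ⟨hA, by
    by_contra hn; exact h A hA hn hle⟩
  have hfix : Subgroup.normalizer (N2 : Set P) ≤ N2 := by
    intro g hg
    rw [mem_normalizer_iff_cj] at hg
    rw [hN2, mem_normalizer_iff_cj]
    refine eq_of_cj_le ?_
    rw [hN, sSup_eq_iSup', cj, Subgroup.map_iSup, iSup_le_iff]
    intro B
    have hB : (B : Subgroup P) ≤ N2 := (le_sSup B.2).trans Subgroup.le_normalizer
    refine le_trans (le_sSup (hmem _ (hG _ B.2.1 g) ?_)) (sSup_eq_iSup' D).le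
    exact (Subgroup.map_mono hB).trans hg.le
  haveI : Group.IsNilpotent P := hP.isNilpotent
  have htop : N2 = ⊤ := by
    by_contra hne
    exact (Group.normalizerCondition_of_isNilpotent N2 (lt_top_iff_ne_top.mpr hne)).not_ge hfix
  obtain ⟨A, hA, hAX⟩ := hX
  exact hAX (hmem A hA (htop.symm ▸ le_top)).2

/-- The main step: an abelian large `X` above the invariant `W` can be traded for one fixed by
everything. -/
theorem exists_invariant_abelian (hP : IsPGroup p P) {W : Subgroup P}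
    (hW : ∀ A : Subgroup P, IsReplacing A → A ≤ Subgroup.normalizer (W : Set P))
    (hne : ∃ X : Subgroup P, Cfsg.IsCentralizerLarge X ∧ X ≤ Subgroup.centralizer (X : Set P) ∧
      W < X) :
    ∃ X : Subgroup P, Cfsg.IsCentralizerLarge X ∧ X ≤ Subgroup.centralizer (X : Set P) ∧ W < X ∧
      ∀ A : Subgroup P, IsReplacing A → A ≤ Subgroup.normalizer (X : Set P) := by
  classical
  set G := {A : Subgroup P | IsReplacing A} with hG
  set F := {X : Subgroup P | Cfsg.IsCentralizerLarge X ∧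
    X ≤ Subgroup.centralizer (X : Set P) ∧ W < X} with hF
  let D : Subgroup P → Set (Subgroup P) := fun X =>
    {B | B ∈ G ∧ B ≤ Subgroup.normalizer (X : Set P)}
  obtain ⟨X0, hX0, hmax⟩ :=
    Set.exists_max_image F (fun X => Nat.card (D X)) (Set.toFinite F) hne
  set D0 := D X0 with hD0
  by_cases hall : ∀ A ∈ G, A ≤ Subgroup.normalizer (X0 : Set P)
  · exact ⟨X0, hX0.1, hX0.2.1, hX0.2.2, hall⟩
  exfalso
  push Not at hall
  -- a smallest member fixed by `D0`
  obtain ⟨X, ⟨hXF, hXD⟩, hmin⟩ :=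
    (Set.toFinite {X | X ∈ F ∧ ∀ B ∈ D0, B ≤ Subgroup.normalizer (X : Set P)}).exists_minimal
      ⟨X0, hX0, fun B hB => hB.2⟩
  have hDX : D X = D0 := by
    refine (Set.eq_of_subset_of_ncard_le (fun B (hB : B ∈ D0) => (⟨hB.1, hXD B hB⟩ : B ∈ D X)) ?_ (Set.toFinite _)).symm
    have := hmax X hXF
    rwa [Nat.card_coe_set_eq, Nat.card_coe_set_eq] at this
  have hXne : ∃ A ∈ G, ¬ A ≤ Subgroup.normalizer (X : Set P) := by
    obtain ⟨A, hA, hAX⟩ := hall
    exact ⟨A, hA, fun h => hAX ((hDX ▸ (⟨hA, h⟩ : A ∈ D X)) : A ∈ D0).2⟩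
  obtain ⟨A, hA, hAX, hAN⟩ := exists_normalizing hP X G (fun B hB g => isReplacing_cj hB g) hXne
  set N := sSup {B | B ∈ G ∧ B ≤ Subgroup.normalizer (X : Set P)} with hN
  have hNX : N ≤ Subgroup.normalizer (X : Set P) := sSup_le_normalizer fun B hB => hB.2
  have hNW : N ≤ Subgroup.normalizer (W : Set P) := sSup_le_normalizer fun B hB => hW B hB.1
  have hAW : A ≤ Subgroup.normalizer (W : Set P) := hW A hA
  -- nothing in `F` is fixed by both `N` and `A`
  have hcontra : ∀ L ∈ F, N ≤ Subgroup.normalizer (L : Set P) →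
      A ≤ Subgroup.normalizer (L : Set P) → False := by
    intro L hL hNL hAL
    have hsub : D0 ⊆ D L := fun B hB => ⟨hB.1, (le_sSup (by
      change B ∈ D X
      rw [hDX]; exact hB)).trans hNL⟩
    have heq : D0 = D L := Set.eq_of_subset_of_ncard_le hsub (by
      rw [← Nat.card_coe_set_eq, ← Nat.card_coe_set_eq]; exact hmax L hL) (Set.toFinite _)
    have : A ∈ D X := by rw [hDX, heq]; exact ⟨hA, hAL⟩
    exact hAX this.2
  obtain ⟨hXl, hXc, hWX⟩ := hXF
  -- the conjugates under `A`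
  have hWcj : ∀ a ∈ A, cj a W = W := fun a ha => mem_normalizer_iff_cj.mp (hAW ha)
  have hNcj : ∀ a ∈ A, ∀ n ∈ N, cj n (cj a X) = cj a X := by
    intro a ha n hn
    have h1 : a⁻¹ * n * a ∈ N := (Subgroup.mem_normalizer_iff''.mp (hAN ha) n).mp hn
    rw [cj_mul, show n * a = a * (a⁻¹ * n * a) by group, ← cj_mul,
      mem_normalizer_iff_cj.mp (hNX h1)]
  have hcjF : ∀ a ∈ A, cj a X ∈ F := fun a ha => ⟨large_cj hXl a, by
    rw [centralizer_cj]; exact Subgroup.map_mono hXc, by
    refine lt_of_le_of_ne (hWcj a ha ▸ Subgroup.map_mono hWX.le) fun h => hWX.ne ?_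
    have := h.trans rfl
    rw [← hWcj a ha] at this
    exact Subgroup.map_injective (MulAut.conj a).injective this⟩
  -- not all conjugates commute
  have hnc : ∃ a ∈ A, ¬ cj a X ≤ Subgroup.centralizer (X : Set P) := by
    by_contra hcom
    push Not at hcom
    set S := ⨆ a : A, cj (a : P) X with hS
    have hcom2 : ∀ a b : A, cj (a : P) X ≤ Subgroup.centralizer (cj (b : P) X : Set P) := by
      intro a b
      rw [centralizer_cj, show (a : P) = (b : P) * ((b : P)⁻¹ * a) by group, ← cj_mul]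
      exact Subgroup.map_mono (hcom _ (A.mul_mem (A.inv_mem b.2) a.2))
    have hSc : S ≤ Subgroup.centralizer (S : Set P) := by
      refine iSup_le fun a => ?_
      rw [Subgroup.le_centralizer_iff]
      exact iSup_le fun b => hcom2 b a
    have hSl : Cfsg.IsCentralizerLarge S := by
      have key : ∀ T : Finset A, T.Nonempty →
          Cfsg.IsCentralizerLarge (T.sup fun a : A => cj (a : P) X) := by
        intro T hT
        induction hT using Finset.Nonempty.cons_induction with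
        | singleton a => simpa using large_cj hXl (a : P)
        | cons a T haT hT ih =>
          rw [Finset.sup_cons]
          exact (large_pair (large_cj hXl (a : P)) ih).1
      haveI := Fintype.ofFinite A
      have := key Finset.univ ⟨1, Finset.mem_univ _⟩
      rwa [Finset.sup_univ_eq_iSup] at this
    have hXS : X ≤ S := (cj_one X).ge.trans (le_iSup (fun a : A => cj (a : P) X) 1)
    refine hcontra S ⟨hSl, hSc, hWX.trans_le hXS⟩ (fun n hn => ?_) (fun b hb => ?_)
    · rw [mem_normalizer_iff_cj]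
      refine eq_of_cj_le ?_
      rw [hS, cj, Subgroup.map_iSup, iSup_le_iff]
      exact fun a => (hNcj a a.2 n hn).le.trans (le_iSup (fun a : A => cj (a : P) X) a)
    · rw [mem_normalizer_iff_cj]
      refine eq_of_cj_le ?_
      rw [hS, cj, Subgroup.map_iSup, iSup_le_iff]
      intro a
      exact (cj_mul b (a : P) X).le.trans
        (le_iSup (fun c : A => cj (c : P) X) ⟨b * a, A.mul_mem hb a.2⟩)
  obtain ⟨a, ha, hnca⟩ := hnc
  set X1 := cj a X with hX1
  obtain ⟨hX1l, hX1c, hWX1⟩ := hcjF a ha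
  set C := Subgroup.centralizer (X : Set P) with hC
  set C1 := Subgroup.centralizer (X1 : Set P) with hC1
  have hWC : W ≤ C := hWX.le.trans hXc
  have hWC1 : W ≤ C1 := hWX1.le.trans hX1c
  -- `X` and `C(X1)` meet in `W`
  have hmeet : ∀ b ∈ A, ¬ cj b X ≤ C → X ⊓ Subgroup.centralizer (cj b X : Set P) = W := by
    intro b hb hncb
    set Cb := Subgroup.centralizer (cj b X : Set P) with hCb
    obtain ⟨hXbl, hXbc, hWXb⟩ := hcjF b hb
    by_contra h
    have hlt : W < X ⊓ Cb :=
      lt_of_le_of_ne (le_inf hWX.le (hWXb.le.trans hXbc)) (Ne.symm h)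
    have hl : Cfsg.IsCentralizerLarge (X ⊓ Cb) :=
      (large_pair hXl (large_centralizer hXbl).1).2.1
    have hc : X ⊓ Cb ≤ Subgroup.centralizer ((X ⊓ Cb : Subgroup P) : Set P) :=
      (inf_le_left.trans hXc).trans (Subgroup.centralizer_le inf_le_left)
    have hfix : ∀ B ∈ D0, B ≤ Subgroup.normalizer ((X ⊓ Cb : Subgroup P) : Set P) := by
      intro B hB n hn
      have hnN : n ∈ N := by
        refine le_sSup (?_ : B ∈ {B | B ∈ G ∧ B ≤ Subgroup.normalizer (X : Set P)}) hn
        change B ∈ D X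
        rw [hDX]; exact hB
      rw [mem_normalizer_iff_cj, cj, Subgroup.map_inf _ _ _ (MulAut.conj n).injective]
      change cj n X ⊓ cj n Cb = _
      rw [mem_normalizer_iff_cj.mp (hNX hnN), hCb, ← centralizer_cj, hNcj b hb n hnN]
    have := hmin ⟨⟨hl, hc, hlt⟩, hfix⟩ inf_le_left
    exact hncb (by rw [hC, Subgroup.le_centralizer_iff]; exact this.trans inf_le_right)
  have hXC1 : X ⊓ C1 = W := hmeet a ha hnca
  have hXX1 : X ⊓ X1 = W :=
    le_antisymm ((inf_le_inf_left X hX1c).trans_eq hXC1) (le_inf hWX.le hWX1.le)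
  have hX1C : X1 ⊓ C ≤ W := by
    have hncinv : ¬ cj a⁻¹ X ≤ C := by
      intro h
      apply hnca
      have h' : X ≤ C1 := by
        have h2 := Subgroup.map_mono (f := (MulAut.conj a).toMonoidHom) h
        rw [hC1, hX1, centralizer_cj]
        change cj a (cj a⁻¹ X) ≤ cj a C at h2
        rwa [cj_mul, mul_inv_cancel, cj_one] at h2
      rw [Subgroup.le_centralizer_iff]
      exact h'
    have h := congrArg (cj a) (hmeet a⁻¹ (A.inv_mem ha) hncinv)
    rw [cj, Subgroup.map_inf _ _ (MulAut.conj a).toMonoidHom (MulAut.conj a).injective] at h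
    change cj a X ⊓ cj a (Subgroup.centralizer (cj a⁻¹ X : Set P)) = cj a W at h
    rw [← centralizer_cj, cj_mul, mul_inv_cancel, cj_one, hWcj a ha] at h
    exact h.le
  -- the subgroup `Y = X X1`
  set Y := X ⊔ X1 with hY
  obtain ⟨hYl, -, hYprod, -, -⟩ := large_pair hXl hX1l
  obtain ⟨hAc, hArep⟩ := hA
  have hQx : Cfsg.IsCentrallyLarge C := centrallyLarge_iff.mpr ⟨(large_centralizer hXl).1, by
    rw [← (large_centralizer hXl).2]; exact hXc⟩
  have hX1A : ∀ y ∈ X1, ∃ x ∈ X, ∃ c ∈ A, y = x * c := by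
    intro y hy
    obtain ⟨x0, hx0, rfl⟩ := hy
    obtain ⟨u, hu, v, hv, huv⟩ := hArep C hQx x0 ((large_centralizer hXl).2 ▸ hx0) a ha
    exact ⟨u, (large_centralizer hXl).2 ▸ hu, v, hv, huv.symm⟩
  have hYA : ∀ y ∈ Y, ∃ x ∈ X, ∃ c ∈ Y ⊓ A, y = x * c := by
    intro y hy
    obtain ⟨x, hx, y1, hy1, rfl⟩ : y ∈ (X : Set P) * (X1 : Set P) := hYprod ▸ hy
    obtain ⟨x', hx', c, hc, rfl⟩ := hX1A y1 hy1
    refine ⟨x * x', X.mul_mem hx hx', c, ⟨?_, hc⟩, (mul_assoc _ _ _).symm⟩
    have : c = (x * x')⁻¹ * (x * (x' * c)) := by group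
    rw [this]
    exact Y.mul_mem (Y.inv_mem (Subgroup.mem_sup_left (X.mul_mem hx hx'))) hy
  have hWY : W ≤ Y := hWX.le.trans le_sup_left
  have hYC : Y ≤ Subgroup.centralizer (W : Set P) :=
    sup_le (hXc.trans (Subgroup.centralizer_le hWX.le))
      (hX1c.trans (Subgroup.centralizer_le hWX1.le))
  have haY : cj a Y = Y := by
    refine eq_of_cj_le ?_
    rw [hY, cj, Subgroup.map_sup]
    refine sup_le le_sup_right ?_
    rintro _ ⟨y, hy, rfl⟩
    obtain ⟨x, hx, c, hc, rfl⟩ := hYA y (Subgroup.mem_sup_right hy)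
    rw [map_mul]
    refine Y.mul_mem (Subgroup.mem_sup_right ⟨x, hx, rfl⟩) ?_
    show a * c * a⁻¹ ∈ Y
    rw [hAc a ha c hc.2, mul_inv_cancel_right]
    exact hc.1
  -- a vector of `Y / W` fixed by `N` and `a`
  have hfixed : ∃ f ∈ Y, f ∉ W ∧ (∀ n ∈ N, n * f * n⁻¹ * f⁻¹ ∈ W) ∧
      a * f * a⁻¹ * f⁻¹ ∈ W := by
    set H := (N ⊔ Subgroup.zpowers a) ⊔ Y with hH
    have hHW : H ≤ Subgroup.normalizer (W : Set P) :=
      sup_le (sup_le hNW (by rw [Subgroup.zpowers_le]; exact hAW ha))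
        (hYC.trans (Subgroup.centralizer_le_normalizer _))
    have hHY : H ≤ Subgroup.normalizer (Y : Set P) := by
      refine sup_le (sup_le (fun n hn => ?_) ?_) Subgroup.le_normalizer
      · rw [mem_normalizer_iff_cj, hY, cj, Subgroup.map_sup]
        change cj n X ⊔ cj n X1 = _
        rw [mem_normalizer_iff_cj.mp (hNX hn), hNcj a ha n hn]
      · rw [Subgroup.zpowers_le, mem_normalizer_iff_cj]; exact haY
    haveI hWn : (W.subgroupOf H).Normal := Subgroup.normal_subgroupOf_of_le_normalizer hHW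
    haveI hYn : (Y.subgroupOf H).Normal := Subgroup.normal_subgroupOf_of_le_normalizer hHY
    let q := QuotientGroup.mk' (W.subgroupOf H)
    have hq : IsPGroup p (↥H ⧸ W.subgroupOf H) := (hP.to_subgroup H).to_quotient _
    haveI : Group.IsNilpotent (↥H ⧸ W.subgroupOf H) := hq.isNilpotent
    haveI : ((Y.subgroupOf H).map q).Normal :=
      Subgroup.Normal.map inferInstance q (QuotientGroup.mk'_surjective _)
    have hYne : (Y.subgroupOf H).map q ≠ ⊥ := by
      intro h0
      rw [Subgroup.map_eq_bot_iff, QuotientGroup.ker_mk'] at h0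
      obtain ⟨x, hx, hxW⟩ := SetLike.exists_of_lt hWX
      have hxY : x ∈ Y := Subgroup.mem_sup_left hx
      exact hxW (h0 (show (⟨x, Subgroup.mem_sup_right hxY⟩ : H) ∈ Y.subgroupOf H from hxY))
    obtain ⟨z, hz, hz1⟩ :=
      (Subgroup.bot_or_exists_ne_one _).resolve_left (Critical.inf_center_ne_bot _ hYne)
    obtain ⟨⟨f, hf, rfl⟩, hzc⟩ := hz
    have hcomm : ∀ h : H, ((h * f * h⁻¹ * f⁻¹ : H) : P) ∈ W := by
      intro h
      have e : q (h * f * h⁻¹ * f⁻¹) = 1 := by
        rw [map_mul, map_mul, map_mul, map_inv, map_inv,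
          Subgroup.mem_center_iff.mp hzc (q h), mul_inv_cancel_right, mul_inv_cancel]
      exact (QuotientGroup.eq_one_iff (N := W.subgroupOf H) _).mp e
    refine ⟨f, hf, fun hfW => hz1 ((QuotientGroup.eq_one_iff _).mpr hfW),
      fun n hn => hcomm ⟨n, Subgroup.mem_sup_left (Subgroup.mem_sup_left hn)⟩,
      hcomm ⟨a, Subgroup.mem_sup_left (Subgroup.mem_sup_right (Subgroup.mem_zpowers a))⟩⟩
  obtain ⟨f, hfY, hfW, hfN, hfa⟩ := hfixed
  -- `F0 = W (Y ∩ A)` is abelian and large
  set F0 := W ⊔ (Y ⊓ A) with hF0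
  have hWc : W ≤ Subgroup.centralizer (W : Set P) :=
    hWC.trans (Subgroup.centralizer_le hWX.le)
  have hF0c : F0 ≤ Subgroup.centralizer (F0 : Set P) := by
    rw [hF0, centralizer_sup]
    refine sup_le (le_inf hWc ?_)
      (le_inf (inf_le_left.trans hYC) fun x hx y hy => hAc y hy.2 x hx.2)
    rw [Subgroup.le_centralizer_iff]
    exact inf_le_left.trans hYC
  have hF0l : Cfsg.IsCentralizerLarge F0 := by
    refine le_antisymm (le_max F0) ?_
    set T := Subgroup.centralizer (Y : Set P) with hT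
    have hTY : T ⊓ Y = W := by
      refine le_antisymm ?_ (le_inf ?_ hWY)
      · rintro y ⟨hyT, hyY⟩
        obtain ⟨x, hx, x1, hx1, rfl⟩ : y ∈ (X : Set P) * (X1 : Set P) := hYprod ▸ hyY
        rw [hT, hY, centralizer_sup] at hyT
        have hx1C : x1 ∈ C := by
          have := C.mul_mem (C.inv_mem (hXc hx)) hyT.1
          simpa using this
        have hx1W : x1 ∈ W := hX1C ⟨hx1, hx1C⟩
        have hxC1 : x ∈ C1 := by
          have := C1.mul_mem hyT.2 (C1.inv_mem (hX1c hx1))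
          simpa using this
        exact W.mul_mem (hXC1.le ⟨hx, hxC1⟩) hx1W
      · rw [hT, Subgroup.le_centralizer_iff]; exact hYC
    have hsup : T ⊔ F0 ≤ Subgroup.centralizer (F0 : Set P) :=
      sup_le (Subgroup.centralizer_le (sup_le hWY inf_le_left)) hF0c
    have hmeas : Nat.card Y * Nat.card T = Cfsg.maxCentralizerProduct P := hYl
    have c1 := card_mul_le T F0
    have hle1 : Nat.card ↥(T ⊓ F0) ≤ Nat.card W :=
      Subgroup.card_le_of_le ((inf_le_inf_left T (sup_le hWY inf_le_left)).trans_eq hTY)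
    have hle2 := Subgroup.card_le_of_le hsup
    -- `|Y| ≤ |X| |F0| / |W|` and `|Y| |W| = |X|²`
    have c2 : Nat.card Y * Nat.card W = Nat.card X * Nat.card X := by
      have := card_mul_set X X1
      rw [← hYprod, hXX1, card_cj] at this
      exact this.symm
    have c3 : Nat.card Y * Nat.card W ≤ Nat.card X * Nat.card F0 := by
      have hsub : (Y : Set P) ⊆ (X : Set P) * (F0 : Set P) := fun y hy => by
        obtain ⟨x, hx, c, hc, rfl⟩ := hYA y hy
        exact ⟨x, hx, c, Subgroup.mem_sup_right hc, rfl⟩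
      rw [card_mul_set X F0]
      exact Nat.mul_le_mul (Nat.card_mono (Set.toFinite _) hsub)
        (Subgroup.card_le_of_le (le_inf hWX.le le_sup_left))
    have hXF0 : Nat.card X ≤ Nat.card F0 := by
      rw [c2] at c3
      exact Nat.le_of_mul_le_mul_left c3 Nat.card_pos
    show _ ≤ meas F0
    unfold meas
    refine Nat.le_of_mul_le_mul_right (c := Nat.card W) ?_ Nat.card_pos
    rw [← hmeas]
    calc Nat.card Y * Nat.card T * Nat.card W = Nat.card T * (Nat.card X * Nat.card X) := by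
          rw [← c2]; ring
      _ ≤ Nat.card T * (Nat.card F0 * Nat.card F0) := by gcongr
      _ = Nat.card F0 * (Nat.card T * Nat.card F0) := by ring
      _ ≤ Nat.card F0 * (Nat.card ↥(T ⊔ F0) * Nat.card ↥(T ⊓ F0)) := by gcongr
      _ ≤ Nat.card F0 * (Nat.card ↥(Subgroup.centralizer (F0 : Set P)) * Nat.card W) := by gcongr
      _ = _ := by ring
  -- a point fixed by `a` lies in `F0`
  have hfF0 : f ∈ F0 := by
    obtain ⟨x, hx, c, hc, rfl⟩ := hYA f hfY
    have e : a * (x * c) * a⁻¹ * (x * c)⁻¹ = a * x * a⁻¹ * x⁻¹ := by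
      have := hAc a ha c hc.2
      calc a * (x * c) * a⁻¹ * (x * c)⁻¹ = a * x * (c * a⁻¹ * c⁻¹) * x⁻¹ := by group
        _ = a * x * a⁻¹ * x⁻¹ := by
            rw [hAc c hc.2 a⁻¹ (A.inv_mem ha), mul_inv_cancel_right]
    rw [e] at hfa
    have h1 : a * x * a⁻¹ ∈ X := by
      have := X.mul_mem (hWX.le hfa) hx
      simpa using this
    have h2 : a * x * a⁻¹ ∈ W := hXX1.le ⟨h1, ⟨x, hx, rfl⟩⟩
    have h3 : x ∈ W := by
      have := W.mul_mem (W.inv_mem hfa) h2
      simpa [mul_assoc] using this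
    exact F0.mul_mem (Subgroup.mem_sup_left h3) (Subgroup.mem_sup_right hc)
  -- the least large subgroup through `W` and `f`
  obtain ⟨U, ⟨hUl, hWU, hfU⟩, hUmin⟩ :=
    exists_least (F := {L | Cfsg.IsCentralizerLarge L ∧ W ≤ L ∧ f ∈ L})
      ⟨F0, hF0l, le_sup_left, hfF0⟩
      fun L hL M hM => ⟨(large_pair hL.1 hM.1).2.1, le_inf hL.2.1 hM.2.1, hL.2.2, hM.2.2⟩
  have hUF0 : U ≤ F0 := hUmin F0 ⟨hF0l, le_sup_left, hfF0⟩
  have hUfix : ∀ g : P, cj g W = W → g * f * g⁻¹ * f⁻¹ ∈ W →
      g ∈ Subgroup.normalizer (U : Set P) := by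
    intro g hg hgf
    rw [mem_normalizer_iff_cj]
    refine eq_of_le_cj (hUmin _ ⟨large_cj hUl g, hg ▸ Subgroup.map_mono hWU, ?_⟩)
    have hw : g * f * g⁻¹ ∈ cj g U := ⟨f, hfU, rfl⟩
    have hw2 : g * f * g⁻¹ * f⁻¹ ∈ cj g U := (hg ▸ Subgroup.map_mono hWU : W ≤ cj g U) hgf
    have := (cj g U).mul_mem ((cj g U).inv_mem hw2) hw
    simpa [mul_assoc] using this
  refine hcontra U ⟨hUl, hUF0.trans (hF0c.trans (Subgroup.centralizer_le hUF0)),
    lt_of_le_of_ne hWU fun h => hfW (h ▸ hfU)⟩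
    (fun n hn => hUfix n (mem_normalizer_iff_cj.mp (hNW hn)) (hfN n hn))
    fun b hb => hUfix b (hWcj b hb) ?_
  -- all of `A` fixes `f` modulo `W`
  have hkey : ∀ y ∈ F0, b * y * b⁻¹ * y⁻¹ ∈ W := by
    intro y hy
    have hn : Y ⊓ A ≤ Subgroup.normalizer (W : Set P) := inf_le_right.trans hAW
    rw [hF0, ← SetLike.mem_coe, Subgroup.coe_mul_of_right_le_normalizer_left W (Y ⊓ A) hn] at hy
    obtain ⟨w, hw, c, hc, rfl⟩ := hy
    have e : b * (w * c) * b⁻¹ * (w * c)⁻¹ = b * w * b⁻¹ * w⁻¹ := by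
      calc b * (w * c) * b⁻¹ * (w * c)⁻¹ = b * w * (c * b⁻¹ * c⁻¹) * w⁻¹ := by group
        _ = b * w * b⁻¹ * w⁻¹ := by
            rw [hAc c hc.2 b⁻¹ (A.inv_mem hb), mul_inv_cancel_right]
    rw [e]
    exact W.mul_mem ((hWcj b hb).le ⟨w, hw, rfl⟩) (W.inv_mem hw)
  exact hkey f hfF0

/-- Some minimal centrally large subgroup is normalized by every replacing subgroup. -/
theorem exists_minimal_normalized (hP : IsPGroup p P) :
    ∃ Q : Subgroup P, Cfsg.IsMinimalCentrallyLarge Q ∧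
      ∀ A : Subgroup P, IsReplacing A → A ≤ Subgroup.normalizer (Q : Set P) := by
  set F := {R : Subgroup P | Cfsg.IsCentrallyLarge R ∧
    ∀ A : Subgroup P, IsReplacing A → A ≤ Subgroup.normalizer (R : Set P)} with hF
  have hFne : F.Nonempty := by
    obtain ⟨R0, hR0, hR0C⟩ := exists_large_containing_centralizer (P := P)
    refine ⟨Cfsg.centrallyLargeJoin P, centrallyLarge_sSup
      ⟨R0, centrallyLarge_iff.mpr ⟨hR0, hR0C⟩⟩ (fun _ h => h), fun A _ g _ => ?_⟩
    rw [mem_normalizer_iff_cj]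
    refine eq_of_cj_le ?_
    rw [Cfsg.centrallyLargeJoin, sSup_eq_iSup', cj, Subgroup.map_iSup, iSup_le_iff]
    exact fun R => le_trans (le_sSup (centrallyLarge_cj R.2 g)) (sSup_eq_iSup' _).le
  obtain ⟨R, ⟨hR, hRinv⟩, hmin⟩ := (Set.toFinite F).exists_minimal hFne
  refine ⟨R, ⟨hR, fun Q hQR hQ => ?_⟩, hRinv⟩
  by_contra hne
  obtain ⟨hRl, hRC⟩ := centrallyLarge_iff.mp hR
  obtain ⟨hQl, hQC⟩ := centrallyLarge_iff.mp hQ
  set W := Subgroup.centralizer (R : Set P) with hW
  have hWlt : W < Subgroup.centralizer (Q : Set P) := by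
    refine lt_of_le_of_ne (Subgroup.centralizer_le hQR) fun h => hne ?_
    rw [(large_centralizer hQl).2, ← h]
    exact (large_centralizer hRl).2.symm
  obtain ⟨X, hXl, hXc, hWX, hXinv⟩ := exists_invariant_abelian hP
    (fun A hA g hg => by
      rw [mem_normalizer_iff_cj, hW, ← centralizer_cj,
        mem_normalizer_iff_cj.mp (hRinv A hA hg)])
    ⟨_, (large_centralizer hQl).1, hQC.trans (large_centralizer hQl).2.le, hWlt⟩
  have hCX : Subgroup.centralizer (X : Set P) ∈ F := by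
    refine ⟨centrallyLarge_iff.mpr ⟨(large_centralizer hXl).1, ?_⟩, fun A hA g hg => ?_⟩
    · rw [← (large_centralizer hXl).2]; exact hXc
    · rw [mem_normalizer_iff_cj, ← centralizer_cj, mem_normalizer_iff_cj.mp (hXinv A hA hg)]
  have hle : Subgroup.centralizer (X : Set P) ≤ R :=
    (Subgroup.centralizer_le hWX.le).trans_eq (large_centralizer hRl).2.symm
  have heq := le_antisymm hle (hmin hCX hle)
  apply hWX.ne
  rw [hW, ← heq, ← (large_centralizer hXl).2]

end

/-- A minimal centrally large `Q` is the product of its part in `R` and its centre. -/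
theorem minimal_eq_inf_sup {Q R : Subgroup P} (hQ : Cfsg.IsMinimalCentrallyLarge Q)
    (hR : Cfsg.IsCentrallyLarge R) : (Q ⊓ R) ⊔ Subgroup.centralizer (Q : Set P) = Q := by
  obtain ⟨hQl, hQC⟩ := centrallyLarge_iff.mp hQ.1
  obtain ⟨hRl, hRC⟩ := centrallyLarge_iff.mp hR
  have hle : (Q ⊓ R) ⊔ Subgroup.centralizer (Q : Set P) ≤ Q := sup_le inf_le_left hQC
  obtain ⟨-, hIl, -, hCprod, hCI⟩ := large_pair hQl hRl
  refine hQ.2 _ hle (centrallyLarge_iff.mpr
    ⟨(large_pair hIl (large_centralizer hQl).1).1, ?_⟩)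
  rw [centralizer_sup, ← (large_centralizer hQl).2, hCI]
  rintro y ⟨hy, hyQ⟩
  replace hy : y ∈ ((Subgroup.centralizer (Q : Set P) ⊔ Subgroup.centralizer (R : Set P) :
    Subgroup P) : Set P) := hy
  rw [hCprod] at hy
  obtain ⟨u, hu, v, hv, rfl⟩ := hy
  refine Subgroup.mul_mem _ (Subgroup.mem_sup_right hu) (Subgroup.mem_sup_left ⟨?_, hRC hv⟩)
  have := Q.mul_mem (Q.inv_mem (hQC hu)) hyQ
  simpa using this

/-- The centre of a minimal centrally large subgroup is replacing. -/
theorem isReplacing_center {V : Subgroup P} (hV : Cfsg.IsCentrallyLarge V) :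
    IsReplacing (Subgroup.centralizer (V : Set P)) := by
  obtain ⟨hVl, hVC⟩ := centrallyLarge_iff.mp hV
  refine ⟨fun a ha b hb => (ha b (hVC hb)).symm, fun Q hQ x hx a ha => ?_⟩
  obtain ⟨hQl, hQC⟩ := centrallyLarge_iff.mp hQ
  obtain ⟨-, -, -, hprod, hC⟩ := large_pair hQl hVl
  rw [← hprod, ← hC]
  intro y hy
  have h1 : y * x = x * y := hx y hy.1
  have h2 : y * a = a * y := ha y hy.2
  have h3 : y * a⁻¹ = a⁻¹ * y := (Commute.inv_right (show Commute y a from h2)).eq
  rw [← mul_assoc, ← mul_assoc, h2, mul_assoc a y x, h1, ← mul_assoc, mul_assoc (a * x) y, h3,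
    ← mul_assoc]

end CfsgLib.CD
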