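import Cfsg.Agent.Lib.CD.Basic
import Cfsg.Agent.S3007
import Cfsg.Agent.Lib.HSub.Small
import Cfsg.Agent.Lib.Fusion.TateInner
import Cfsg.Agent.Lib.Critical.Basic
import Cfsg.Agent.Lib.Layer.FrattiniQuot

/-!
Minimal centrally large subgroups and an abelian normal subgroup on which the group acts as an
exact offender.
-/

set_option autoImplicit false
set_option linter.unusedSectionVars false

open scoped commutatorElement

namespace CfsgLib.CD.Offender

open Cfsg

variable {P : Type*} [Group P] [Finite P]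

/-- The centralizer. -/
abbrev cz (R : Subgroup P) : Subgroup P := Subgroup.centralizer (R : Set P)

theorem cz_le {R : Subgroup P} (hR : IsCentrallyLarge R) : cz R ≤ R := (centrallyLarge_iff.1 hR).2

theorem meas_eq {R : Subgroup P} (hR : IsCentrallyLarge R) :
    Nat.card R * Nat.card (cz R) = maxCentralProduct P := by
  rw [maxCentralProduct_eq]
  exact (centrallyLarge_iff.1 hR).1

theorem meas_le (T : Subgroup P) : Nat.card T * Nat.card ↥(T ⊓ cz T) ≤ maxCentralProduct P := by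
  rw [← card_center_eq]
  exact le_csSup (bddAbove_range (fun R : Subgroup P => Nat.card R * Nat.card (Subgroup.center R)))
    ⟨T, rfl⟩

theorem cl_of_meas {T : Subgroup P} (h : maxCentralProduct P ≤ Nat.card T * Nat.card ↥(T ⊓ cz T)) :
    IsCentrallyLarge T := by
  rw [IsCentrallyLarge, card_center_eq]
  exact le_antisymm (meas_le T) h

theorem exists_mcl_le {T : Subgroup P} (hT : IsCentrallyLarge T) :
    ∃ R ≤ T, IsMinimalCentrallyLarge R := by
  obtain ⟨R, ⟨hRT, hR⟩, hmin⟩ :=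
    (Set.toFinite {R : Subgroup P | R ≤ T ∧ IsCentrallyLarge R}).exists_minimal ⟨T, le_rfl, hT⟩
  exact ⟨R, hRT, hR, fun R' hle hR' => le_antisymm hle (hmin ⟨hle.trans hRT, hR'⟩ hle)⟩

theorem mcl_card {R R' : Subgroup P} (hR : IsMinimalCentrallyLarge R)
    (hR' : IsMinimalCentrallyLarge R') : Nat.card R = Nat.card R' :=
  (Cfsg.Agent.S3007.uniform R R' hR hR').2.1

theorem cl_of_equiv {A B : Subgroup P} (e : A ≃* B) (h : IsCentrallyLarge A) : IsCentrallyLarge B := by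
  rw [IsCentrallyLarge] at h ⊢
  rw [← h, Nat.card_congr e.toEquiv, Nat.card_congr (Subgroup.centerCongr e).toEquiv]

/-- An embedding carries a minimal centrally large subgroup to one. -/
theorem mcl_range {R : Subgroup P} (hR : IsMinimalCentrallyLarge R) (f : R →* P)
    (hf : Function.Injective f) : IsMinimalCentrallyLarge f.range := by
  refine ⟨cl_of_equiv (MonoidHom.ofInjective hf) hR.1, fun R' hle hR' => ?_⟩
  have hmap : (R'.comap f).map f = R' := Subgroup.map_comap_eq_self hle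
  let e : R' ≃* ↥((R'.comap f).map R.subtype) :=
    ((MulEquiv.subgroupCongr hmap).symm.trans ((R'.comap f).equivMapOfInjective f hf).symm).trans
      ((R'.comap f).equivMapOfInjective R.subtype R.subtype_injective)
  have h3 := hR.2 _ (Subgroup.map_subtype_le _) (cl_of_equiv e hR')
  refine Subgroup.eq_of_le_of_card_ge hle ?_
  have h4 : Nat.card R' = Nat.card R := (Nat.card_congr e.toEquiv).trans (by rw [h3])
  rw [h4]
  exact (Nat.card_congr (MonoidHom.ofInjective hf).toEquiv).ge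

/-- `Ω₁` of the centre as a set. -/
def om (p : ℕ) (X : Subgroup P) : Subgroup P where
  carrier := {x | x ∈ X ⊓ cz X ∧ x ^ p = 1}
  one_mem' := ⟨one_mem _, one_pow p⟩
  mul_mem' := fun {a b} ha hb => ⟨mul_mem ha.1 hb.1, by
    rw [(show Commute a b from Subgroup.mem_centralizer_iff.1 hb.1.2 a ha.1.1).mul_pow, ha.2, hb.2,
      one_mul]⟩
  inv_mem' := fun {a} ha => ⟨inv_mem ha.1, by rw [inv_pow, ha.2, inv_one]⟩

theorem omegaOneCenter_eq (p : ℕ) (X : Subgroup P) : omegaOneCenter p X = om p X :=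
  le_antisymm ((Subgroup.closure_le _).2 fun _ hx => hx) fun _ hx => Subgroup.subset_closure hx

/-- The elements of `Ω₁` of the centre, inside the subgroup. -/
def omEquiv (p : ℕ) (X : Subgroup P) : om p X ≃ {x : Subgroup.center X // x ^ p = 1} where
  toFun x := ⟨⟨⟨x, x.2.1.1⟩, Subgroup.mem_center_iff.2 fun y => Subtype.ext
    (Subgroup.mem_centralizer_iff.1 x.2.1.2 y y.2)⟩, Subtype.ext (Subtype.ext x.2.2)⟩
  invFun x := ⟨((x.1 : X) : P), ⟨(x.1 : X).2, Subgroup.mem_centralizer_iff.2 fun y hy =>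
    congrArg Subtype.val (Subgroup.mem_center_iff.1 x.1.2 ⟨y, hy⟩)⟩,
    congrArg (fun z : Subgroup.center X => ((z : X) : P)) x.2⟩
  left_inv _ := rfl
  right_inv _ := rfl

theorem card_om_congr (p : ℕ) {A B : Subgroup P} (e : A ≃* B) :
    Nat.card (omegaOneCenter p A) = Nat.card (omegaOneCenter p B) := by
  rw [omegaOneCenter_eq, omegaOneCenter_eq, Nat.card_congr (omEquiv p A), Nat.card_congr (omEquiv p B)]
  refine Nat.card_congr ((Subgroup.centerCongr e).toEquiv.subtypeEquiv fun x => ?_)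
  exact ⟨fun h => by
    show (Subgroup.centerCongr e x) ^ p = 1
    rw [← map_pow, h, map_one], fun h => (Subgroup.centerCongr e).injective (by
    rw [map_pow, map_one]; exact h)⟩

/-! ### The Frattini subgroup of a subgroup -/

variable {p : ℕ} [hp : Fact p.Prime]

/-- The Frattini subgroup of a subgroup. -/
def phi (R : Subgroup P) : Subgroup P := (frattini R).map R.subtype

theorem phi_le (R : Subgroup P) : phi R ≤ R := Subgroup.map_subtype_le _

theorem comm_le_phi {R : Subgroup P} (hR : IsPGroup p R) : ⁅R, R⁆ ≤ phi R := by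
  rw [phi, ← Subgroup.map_subtype_commutator]
  exact Subgroup.map_mono (CfsgLib.PSolvable.commutator_le_frattini hR).1

theorem pow_mem_phi {R : Subgroup P} (hR : IsPGroup p R) {x : P} (hx : x ∈ R) : x ^ p ∈ phi R :=
  ⟨⟨x, hx⟩ ^ p, (CfsgLib.PSolvable.commutator_le_frattini hR).2 _, rfl⟩

theorem phi_le_of {R N : Subgroup P} (hn : R ≤ Subgroup.normalizer (N : Set P))
    (hc : ⁅R, R⁆ ≤ N) (hpow : ∀ x ∈ R, x ^ p ∈ N) : phi R ≤ N := by
  haveI : (N.subgroupOf R).Normal := Subgroup.normal_subgroupOf_of_le_normalizer hn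
  have h : frattini R ≤ N.subgroupOf R := CfsgLib.Critical.frattini_le_of_elementary (p := p) _
    (fun x hx => hc (by
      rw [← Subgroup.map_subtype_commutator]; exact Subgroup.mem_map_of_mem R.subtype hx))
    fun x => hpow x x.2
  rintro _ ⟨x, hx, rfl⟩
  exact h hx

theorem le_normalizer_phi (R : Subgroup P) : R ≤ Subgroup.normalizer (phi R : Set P) := fun r hr =>
  Subgroup.mem_normalizer_fintype fun x hx => by
    obtain ⟨y, hy, rfl⟩ := hx
    exact ⟨⟨r, hr⟩ * y * ⟨r, hr⟩⁻¹, Subgroup.Normal.conj_mem inferInstance y hy _, rfl⟩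

theorem map_phi_le {A B : Subgroup P} (e : A ≃* B) {x : P} (hx : x ∈ phi A) :
    ((e ⟨x, phi_le A hx⟩ : B) : P) ∈ phi B := by
  obtain ⟨y, hy, rfl⟩ := hx
  exact ⟨e y, CfsgLib.Layer.map_frattini_le e.toMonoidHom e.surjective ⟨y, hy, rfl⟩, rfl⟩

/-- A central factor of exponent `p` does not change the Frattini subgroup. -/
theorem phi_eq_of_central {R R₀ E : Subgroup P} (hR : IsPGroup p R) (he : R₀ ⊔ E = R)
    (hEc : ∀ e ∈ E, ∀ r ∈ R, Commute e r) (hEp : ∀ e ∈ E, e ^ p = 1) : phi R = phi R₀ := by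
  have hle : R₀ ≤ R := he ▸ le_sup_left
  have hER : E ≤ R := he ▸ le_sup_right
  have hR₀ : IsPGroup p R₀ := hR.to_le hle
  have hdec : ∀ r ∈ R, ∃ a ∈ R₀, ∃ e ∈ E, r = a * e := by
    intro r hr
    rw [← he, ← SetLike.mem_coe, Subgroup.coe_mul_of_right_le_normalizer_left R₀ E
      (fun e hE => Subgroup.mem_normalizer_fintype fun x hx => by
        rw [(hEc e hE x (hle hx)).eq, mul_inv_cancel_right]; exact hx)] at hr
    obtain ⟨a, ha, e, hE, rfl⟩ := hr
    exact ⟨a, ha, e, hE, rfl⟩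
  refine le_antisymm (phi_le_of (p := p) ?_ ?_ ?_) ?_
  · rw [← he]
    refine sup_le (le_normalizer_phi R₀) fun e hE => Subgroup.mem_normalizer_fintype fun x hx => ?_
    rw [(hEc e hE x (hle (phi_le R₀ hx))).eq, mul_inv_cancel_right]
    exact hx
  · refine Subgroup.commutator_le.2 fun r hr r' hr' => ?_
    obtain ⟨a, ha, e, hE, rfl⟩ := hdec r hr
    obtain ⟨b, hb, e', hE', rfl⟩ := hdec r' hr'
    have h1 : ⁅a * e, b * e'⁆ = ⁅a, b⁆ := by
      simp only [commutatorElement_def, mul_inv_rev]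
      calc a * e * (b * e') * (e⁻¹ * a⁻¹) * (e'⁻¹ * b⁻¹)
          = a * (e * (b * e')) * e⁻¹ * a⁻¹ * e'⁻¹ * b⁻¹ := by group
        _ = a * b * (e' * a⁻¹) * e'⁻¹ * b⁻¹ := by
          rw [(hEc e hE _ (mul_mem (hle hb) (hER hE'))).eq]; group
        _ = a * b * a⁻¹ * b⁻¹ := by rw [(hEc e' hE' _ (inv_mem (hle ha))).eq]; group
    rw [h1]
    exact comm_le_phi hR₀ (Subgroup.commutator_mem_commutator ha hb)
  · intro r hr
    obtain ⟨a, ha, e, hE, rfl⟩ := hdec r hr
    rw [(hEc e hE a (hle ha)).symm.mul_pow, hEp e hE, mul_one]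
    exact pow_mem_phi hR₀ ha
  · refine (phi_le_of (p := p) (N := phi R ⊓ R₀) (fun a ha => Subgroup.mem_normalizer_fintype fun x hx => ?_)
      (le_inf ((Subgroup.commutator_mono hle hle).trans (comm_le_phi hR)) R₀.commutator_le_self)
      fun x hx => ⟨pow_mem_phi hR (hle hx), pow_mem hx p⟩).trans inf_le_left
    exact ⟨(Subgroup.mem_normalizer_iff.1 (le_normalizer_phi R (hle ha)) x).1 hx.1,
      R₀.mul_mem (R₀.mul_mem ha hx.2) (R₀.inv_mem ha)⟩

theorem elementary_of_phi_eq_bot {R : Subgroup P} (hR : IsPGroup p R) (h : phi R = ⊥) :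
    IsElementaryAbelian p R := by
  refine ⟨⟨⟨fun a b => Subtype.ext ?_⟩⟩, fun x hx => Subgroup.mem_bot.1 (h ▸ pow_mem_phi hR hx)⟩
  exact commutatorElement_eq_one_iff_mul_comm.1 (Subgroup.mem_bot.1
    (h ▸ comm_le_phi hR (Subgroup.commutator_mem_commutator a.2 b.2)))

/-! ### The counting -/

/-- The hypotheses on `Q₀ ≥ W`. -/
structure Act (Q₀ W : Subgroup P) (q : ℕ) : Prop where
  one_lt : 1 < q
  le : W ≤ Q₀
  comm : ∀ x ∈ Q₀, ∀ w ∈ W, Commute x w
  idx : ∀ R : Subgroup P, Nat.card R ≤ q * Nat.card ↥(R ⊓ Q₀)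
  wide : q * Nat.card ↥(W ⊓ Subgroup.center P) ≤ Nat.card W
  fix : ∀ x, x ∉ Q₀ → ∀ w ∈ W, Commute x w → w ∈ Subgroup.center P

/-- The replacement inside `Q₀` of a minimal centrally large subgroup outside. -/
theorem replace {Q₀ W : Subgroup P} {q : ℕ} (h : Act Q₀ W q) {R : Subgroup P}
    (hR : IsMinimalCentrallyLarge R) (hRQ : ¬ R ≤ Q₀) :
    IsMinimalCentrallyLarge ((R ⊓ Q₀) ⊔ W) ∧ ¬ W ≤ R ∧ (R ⊓ Q₀) ⊔ W ≤ Q₀ ∧
      W ⊓ R = W ⊓ Subgroup.center P ∧ Nat.card R = q * Nat.card ↥(R ⊓ Q₀) ∧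
      Nat.card ↥((R ⊓ Q₀) ⊔ W) = Nat.card R := by
  set R₀ := R ⊓ Q₀
  set C := cz R with hC
  set C₀ := C ⊓ Q₀
  set T := R₀ ⊔ W
  have hCR : C ≤ R := cz_le hR.1
  have hzC : W ⊓ Subgroup.center P ≤ C := inf_le_right.trans (Subgroup.center_le_centralizer _)
  have hf := meas_eq hR.1
  -- the centre of `T`
  have hCT : C₀ ⊔ W ≤ T ⊓ cz T := by
    have hle : C₀ ≤ R₀ := inf_le_inf_right _ hCR
    refine le_inf (sup_le (hle.trans le_sup_left) le_sup_right) ?_
    rw [Subgroup.le_centralizer_iff]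
    refine sup_le ?_ ?_
    · rw [Subgroup.le_centralizer_iff]
      refine sup_le (fun c hc => Subgroup.mem_centralizer_iff.2 fun r hr =>
        Subgroup.mem_centralizer_iff.1 hc.1 r hr.1) fun w hw => ?_
      exact Subgroup.mem_centralizer_iff.2 fun r hr => (h.comm r hr.2 w hw).eq
    · rw [Subgroup.le_centralizer_iff]
      refine sup_le (fun c hc => Subgroup.mem_centralizer_iff.2 fun w hw => (h.comm c hc.2 w hw).symm.eq)
        fun w hw => Subgroup.mem_centralizer_iff.2 fun v hv => (h.comm v (h.le hv) w hw).eq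
  have hmT : Nat.card T * Nat.card ↥(C₀ ⊔ W) ≤ maxCentralProduct P :=
    (Nat.mul_le_mul_left _ (Subgroup.card_le_of_le hCT)).trans (meas_le T)
  -- the size of the centre
  have hC₀W : C₀ ⊓ W ≤ W ⊓ Subgroup.center P := by
    intro w hw
    obtain ⟨x, hx, hxQ⟩ := SetLike.not_le_iff_exists.1 hRQ
    exact ⟨hw.2, h.fix x hxQ w hw.2 (Subgroup.mem_centralizer_iff.1 hw.1.1 x hx)⟩
  have hZ : q * Nat.card C₀ ≤ Nat.card ↥(C₀ ⊔ W) := by
    have h1 := card_mul_le C₀ W
    have h2 := Subgroup.card_le_of_le hC₀W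
    refine Nat.le_of_mul_le_mul_right (?_ : _ * Nat.card ↥(W ⊓ Subgroup.center P) ≤
      _ * Nat.card ↥(W ⊓ Subgroup.center P)) Nat.card_pos
    calc q * Nat.card C₀ * Nat.card ↥(W ⊓ Subgroup.center P)
        = Nat.card C₀ * (q * Nat.card ↥(W ⊓ Subgroup.center P)) := by ring
      _ ≤ Nat.card C₀ * Nat.card W := Nat.mul_le_mul_left _ h.wide
      _ ≤ _ := h1
      _ ≤ _ := Nat.mul_le_mul_left _ h2
  -- the first case cannot occur
  have hsmall : W ⊓ R ≤ W ⊓ Subgroup.center P := by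
    by_contra hn
    obtain ⟨w, hw, hwz⟩ := SetLike.not_le_iff_exists.1 hn
    have hCQ : C ≤ Q₀ := fun x hx => by
      by_contra hxQ
      exact hwz ⟨hw.1, h.fix x hxQ w hw.1 (Subgroup.mem_centralizer_iff.1 hx w hw.2).symm⟩
    have hC₀ : C₀ = C := inf_eq_left.2 hCQ
    rw [hC₀] at hZ hCT hmT
    have hR₀T : Nat.card R₀ ≤ Nat.card T := Subgroup.card_le_of_le le_sup_left
    have key : Nat.card R * Nat.card C ≤ Nat.card R₀ * (q * Nat.card C) := by
      calc Nat.card R * Nat.card C ≤ q * Nat.card R₀ * Nat.card C := Nat.mul_le_mul_right _ (h.idx R)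
        _ = _ := by ring
    have hRT : T = R₀ := by
      refine (Subgroup.eq_of_le_of_card_ge le_sup_left ?_).symm
      refine Nat.le_of_mul_le_mul_right (?_ : _ * (q * Nat.card C) ≤ _ * (q * Nat.card C))
        (Nat.mul_pos (by have := h.one_lt; omega) Nat.card_pos)
      calc Nat.card T * (q * Nat.card C) ≤ Nat.card T * Nat.card ↥(C ⊔ W) := Nat.mul_le_mul_left _ hZ
        _ ≤ maxCentralProduct P := hmT
        _ = Nat.card R * Nat.card C := hf.symm
        _ ≤ _ := key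
    have hcl : IsCentrallyLarge T := cl_of_meas (by
      rw [← hf]
      refine key.trans ?_
      rw [hRT]
      exact Nat.mul_le_mul_left _ (hZ.trans (Subgroup.card_le_of_le (hRT ▸ hCT))))
    rw [hRT] at hcl
    exact hRQ ((hR.2 R₀ inf_le_left hcl).ge.trans inf_le_right)
  have hWR : W ⊓ R = W ⊓ Subgroup.center P :=
    le_antisymm hsmall (le_inf inf_le_left (hzC.trans hCR))
  have hT : q * Nat.card R₀ ≤ Nat.card T := by
    have h1 := card_mul_le R₀ W
    have h2 : Nat.card ↥(R₀ ⊓ W) ≤ Nat.card ↥(W ⊓ Subgroup.center P) :=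
      Subgroup.card_le_of_le fun x hx => hsmall ⟨hx.2, hx.1.1⟩
    refine Nat.le_of_mul_le_mul_right (?_ : _ * Nat.card ↥(W ⊓ Subgroup.center P) ≤
      _ * Nat.card ↥(W ⊓ Subgroup.center P)) Nat.card_pos
    calc q * Nat.card R₀ * Nat.card ↥(W ⊓ Subgroup.center P)
        = Nat.card R₀ * (q * Nat.card ↥(W ⊓ Subgroup.center P)) := by ring
      _ ≤ Nat.card R₀ * Nat.card W := Nat.mul_le_mul_left _ h.wide
      _ ≤ _ := h1
      _ ≤ _ := Nat.mul_le_mul_left _ h2
  have hC1 : Nat.card C ≤ q * Nat.card C₀ := h.idx C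
  have hR1 : Nat.card R ≤ Nat.card T := (h.idx R).trans hT
  have hC2 : Nat.card C ≤ Nat.card ↥(C₀ ⊔ W) := hC1.trans hZ
  have hTR : Nat.card T = Nat.card R := by
    refine le_antisymm (Nat.le_of_mul_le_mul_right (?_ : _ * Nat.card C ≤ _ * Nat.card C) Nat.card_pos) hR1
    rw [hf]
    exact (Nat.mul_le_mul_left _ hC2).trans hmT
  have hTcl : IsCentrallyLarge T := cl_of_meas (by
    rw [← hf]
    exact Nat.mul_le_mul hR1 (hC2.trans (Subgroup.card_le_of_le hCT)))
  obtain ⟨R', hR'T, hR'⟩ := exists_mcl_le hTcl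
  have hR'eq : R' = T :=
    Subgroup.eq_of_le_of_card_ge hR'T ((hTR.trans (mcl_card hR hR')).le)
  refine ⟨hR'eq ▸ hR', fun hle => ?_, sup_le inf_le_right h.le, hWR,
    le_antisymm (h.idx R) (hTR ▸ hT), hTR⟩
  have h3 : W ⊓ R = W := inf_eq_left.2 hle
  rw [h3] at hWR
  have h4 := h.wide
  rw [← hWR] at h4
  have h5 : 0 < Nat.card W := Nat.card_pos
  nlinarith [h.one_lt]

/-- The replacement also keeps the largest `Ω₁` of the centre and the Frattini subgroup. -/
theorem replace_frattini (hP : IsPGroup p P) {Q₀ W W₁ : Subgroup P} {q : ℕ} (h : Act Q₀ W q)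
    (hW₁ : W₁ ≤ W) (hW₁p : ∀ w ∈ W₁, w ^ p = 1)
    (hwide : q * Nat.card ↥(W₁ ⊓ Subgroup.center P) ≤ Nat.card W₁)
    {R : Subgroup P} (hR : IsMinimalCentrallyLarge R)
    (hmz : Nat.card (omegaOneCenter p R) = maxOmegaCenterOfMinimalCL p P) (hRQ : ¬ R ≤ Q₀) :
    ∃ T ≤ Q₀, IsMinimalCentrallyLarge T ∧
      Nat.card (omegaOneCenter p T) = maxOmegaCenterOfMinimalCL p P ∧ phi R = phi T := by
  obtain ⟨hT, -, hTQ, hWR, hR0, hTR⟩ := replace h hR hRQ
  set R₀ := R ⊓ Q₀
  set T := R₀ ⊔ W with hTdef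
  have hq : 0 < q := by have := h.one_lt; omega
  rw [omegaOneCenter_eq] at hmz
  set O := om p R
  set O₀ := O ⊓ Q₀
  have hOR : O ≤ R := fun x hx => hx.1.1
  have hW₁T : W₁ ≤ T := hW₁.trans le_sup_right
  have hWT : ∀ w ∈ W, w ∈ cz T := by
    intro w hw
    refine Subgroup.mem_centralizer_iff.2 fun x hx => ?_
    exact (h.comm x (hTQ hx) w hw).eq
  have hinter : ∀ X : Subgroup P, X ≤ R → X ⊓ W₁ ≤ W₁ ⊓ Subgroup.center P := fun X hX x hx =>
    ⟨hx.2, (hWR.le ⟨hW₁ hx.2, hX hx.1⟩).2⟩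
  have hwide' : ∀ X : Subgroup P, X ≤ R → q * Nat.card X ≤ Nat.card ↥(X ⊔ W₁) := by
    intro X hX
    refine Nat.le_of_mul_le_mul_right (?_ : _ * Nat.card ↥(W₁ ⊓ Subgroup.center P) ≤
      _ * Nat.card ↥(W₁ ⊓ Subgroup.center P)) Nat.card_pos
    calc q * Nat.card X * Nat.card ↥(W₁ ⊓ Subgroup.center P)
        = Nat.card X * (q * Nat.card ↥(W₁ ⊓ Subgroup.center P)) := by ring
      _ ≤ Nat.card X * Nat.card W₁ := Nat.mul_le_mul_left _ hwide
      _ ≤ _ := card_mul_le X W₁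
      _ ≤ _ := Nat.mul_le_mul_left _ (Subgroup.card_le_of_le (hinter X hX))
  have hOT : O₀ ⊔ W₁ ≤ om p T := by
    refine sup_le (fun x hx => ⟨⟨Subgroup.mem_sup_left ⟨hOR hx.1, hx.2⟩,
      Subgroup.mem_centralizer_iff.2 fun y hy => ?_⟩, hx.1.2⟩)
      fun w hw => ⟨⟨hW₁T hw, hWT w (hW₁ hw)⟩, hW₁p w hw⟩
    have hle : T ≤ Subgroup.centralizer ({x} : Set P) := sup_le
      (fun r hr => Subgroup.mem_centralizer_singleton_iff.2
        (Subgroup.mem_centralizer_iff.1 hx.1.1.2 r hr.1))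
      (fun w hw => Subgroup.mem_centralizer_singleton_iff.2 (h.comm x hx.2 w hw).symm.eq)
    exact Subgroup.mem_centralizer_singleton_iff.1 (hle hy)
  have hO1 : Nat.card O ≤ q * Nat.card O₀ := h.idx O
  have hO2 : q * Nat.card O₀ ≤ Nat.card (om p T) :=
    (hwide' O₀ (inf_le_left.trans hOR)).trans (Subgroup.card_le_of_le hOT)
  have hle : Nat.card (om p T) ≤ maxOmegaCenterOfMinimalCL p P := by
    rw [← omegaOneCenter_eq]
    refine le_csSup ⟨Nat.card P, ?_⟩ ⟨T, hT, rfl⟩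
    rintro k ⟨X, -, rfl⟩
    exact Subgroup.card_le_card_group _
  have hTmz : Nat.card (om p T) = maxOmegaCenterOfMinimalCL p P :=
    le_antisymm hle (hmz ▸ hO1.trans hO2)
  have hOeq : q * Nat.card O₀ = Nat.card O := le_antisymm (hmz ▸ hO2.trans hle) hO1
  have hcovR : R₀ ⊔ O = R := by
    refine Subgroup.eq_of_le_of_card_ge (sup_le inf_le_left hOR) ?_
    rw [hR0]
    refine Nat.le_of_mul_le_mul_right (?_ : _ * Nat.card O₀ ≤ _ * Nat.card O₀) Nat.card_pos
    calc q * Nat.card R₀ * Nat.card O₀ = Nat.card R₀ * Nat.card O := by rw [← hOeq]; ring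
      _ ≤ _ := card_mul_le R₀ O
      _ ≤ _ := Nat.mul_le_mul_left _
        (Subgroup.card_le_of_le (le_inf inf_le_right (inf_le_left.trans inf_le_right)))
  have hcovT : R₀ ⊔ W₁ = T := by
    refine Subgroup.eq_of_le_of_card_ge (sup_le le_sup_left hW₁T) ?_
    rw [hTR, hR0]
    exact hwide' R₀ inf_le_left
  refine ⟨T, hTQ, hT, by rw [omegaOneCenter_eq, hTmz], ?_⟩
  rw [phi_eq_of_central (p := p) (hP.to_subgroup R) hcovR
      (fun e he r hr => (Subgroup.mem_centralizer_iff.1 he.1.2 r hr).symm) fun e he => he.2,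
    phi_eq_of_central (p := p) (hP.to_subgroup T) hcovT
      (fun e he r hr => (Subgroup.mem_centralizer_iff.1 (hWT e (hW₁ he)) r hr).symm) hW₁p]

end CfsgLib.CD.Offender
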